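import Mathlib
import Cfsg.Prelude.Def_Classical
import Cfsg.Prelude.Def_GeometricClasses
import Cfsg.Agent.Lib.Helper18.ONE.Defs
import Cfsg.Agent.Lib.Helper1.OMO.Defs

set_option autoImplicit false
set_option linter.unusedVariables false
set_option linter.unusedSectionVars false

/-!
# Project ODN = statements S5989 + S5991 (designer helper1).
`PΩ⁺_{2d}(q)` / `PΩ⁻_{2d}(q)`, `q` odd, `d ≥ 4`, acting on ONE isometry class of nondegenerate `m`-spaces, `m` odd, `m < d`:
which primes `r` have every element of order `r` fixing a member of the class.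

Vocabulary reused: helper13's S5955 (`STI`, `SND`, `SOrth`, `SInv`, `fixS`, `cycS`), helper15's S5972 (`OCtx`), helper18's ONE (`OTy`),
helper16's counting type `IsType`.
-/

namespace Cfsg.Agent.Lib.Helper1.ODN

open Polynomial Module Cfsg.Agent.Lib.Helper13.S5955 Cfsg.Agent.Lib.helper15.S5972 Cfsg.Agent.Lib.Helper18.ONE

variable {F : Type*} [Field F] {V : Type*} [AddCommGroup V] [Module F V]

/-- the subspaces `W`, `W'` are isometric for the values `B w w` (in characteristic `≠ 2`, `B` symmetric: for `B`) -/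
def SIso (B : LinearMap.BilinForm F V) (W W' : Submodule F V) : Prop :=
  ∃ e : ↥W ≃ₗ[F] ↥W', ∀ w : ↥W, B ((e w : ↥W') : V) ((e w : ↥W') : V) = B (w : V) (w : V)

/-- the class `Ω`: the `m`-dimensional nondegenerate subspaces isometric to `W₀` -/
abbrev OmC (B : LinearMap.BilinForm F V) (m : ℕ) (W₀ : Submodule F V) : Type _ :=
  {W : Submodule F V // finrank F W = m ∧ SND B W ∧ SIso B W W₀}

/-- `x` fixes a member of the class of `W₀` of dimension `m` -/
def FixC (B : LinearMap.BilinForm F V) (x : Module.End F V) (m : ℕ) (W₀ : Submodule F V) : Prop :=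
  ∃ W : Submodule F V, SInv x W ∧ SND B W ∧ finrank F W = m ∧ SIso B W W₀

/-- the orthogonal direct sum of two bilinear forms -/
noncomputable def prodB {V₁ V₂ : Type*} [AddCommGroup V₁] [Module F V₁] [AddCommGroup V₂] [Module F V₂]
    (B₁ : LinearMap.BilinForm F V₁) (B₂ : LinearMap.BilinForm F V₂) : LinearMap.BilinForm F (V₁ × V₂) :=
  B₁.comp (LinearMap.fst F V₁ V₂) (LinearMap.fst F V₁ V₂) + B₂.comp (LinearMap.snd F V₁ V₂) (LinearMap.snd F V₁ V₂)

theorem prodB_apply {V₁ V₂ : Type*} [AddCommGroup V₁] [Module F V₁] [AddCommGroup V₂] [Module F V₂]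
    (B₁ : LinearMap.BilinForm F V₁) (B₂ : LinearMap.BilinForm F V₂) (u v : V₁ × V₂) :
    prodB B₁ B₂ u v = B₁ u.1 v.1 + B₂ u.2 v.2 := rfl

/-- the arithmetic condition (odd `r ≠ p`; `ε = 1` for `Ω⁺`, `ε = -1` for `Ω⁻`; `n = 2d`): with `k = n % c`,
either `k > 0`, `m % c < k` and `c ≤ m`, or `k = 0` and the fixed-point-free elements do not exist
(a fixed-point-free element of order `r` lives on a space of type `+` iff `i` is odd or `n / i` is even). -/
def ODC (i c d m : ℕ) (ε : ℤ) : Prop :=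
  (0 < (2 * d) % c ∧ m % c < (2 * d) % c ∧ c ≤ m) ∨
    ((2 * d) % c = 0 ∧ ¬ (ε = 1 ↔ (Odd i ∨ Even (2 * d / i))))

end Cfsg.Agent.Lib.Helper1.ODN
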